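import Cfsg.Prelude.Def_KGroupFacts
import Mathlib.GroupTheory.SemidirectProduct
import Mathlib.GroupTheory.SpecificGroups.Cyclic
import Mathlib.GroupTheory.QuotientGroup.Basic
import Mathlib.GroupTheory.Subgroup.Center
import Mathlib.Algebra.Group.Subgroup.Finite

/-!
# Central extensions by corestriction

Let `G` act on a finite set `X` with a point `x0` and a transversal `t`, and let `π : H → G` be a homomorphism onto the
stabiliser of `x0` with central kernel `Z`.  The pairs `(A, g)` with `A x` a lift of `(t x)⁻¹ * g * t (g⁻¹ • x)` form a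
group, an extension of `G` by `Z ^ X`; dividing by the functions `X → Z` of product `1` gives a central extension
of `G` by `Z`.  No presentation of `G` is needed.
-/

set_option autoImplicit false

namespace Cfsg.Agent.Lib.Cores

open Cfsg Subgroup
open scoped commutatorElement

variable {G X H : Type} [Group G] [Group H] [MulAction G X]

/-- The centre is commutative. -/
instance centerCG (H : Type) [Group H] : CommGroup (center H) :=
  { (inferInstance : Group (center H)) with
    mul_comm := fun a b => Subtype.ext ((Subgroup.mem_center_iff.1 b.2 a.1)) }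

/-- `G` acts on the functions `X → H`. -/
def phi : G →* MulAut (X → H) where
  toFun g :=
    { toFun := fun A x => A (g⁻¹ • x)
      invFun := fun A x => A (g • x)
      left_inv := fun A => by
        funext x
        simp
      right_inv := fun A => by
        funext x
        simp
      map_mul' := fun _ _ => rfl }
  map_one' := by
    ext A x
    simp
  map_mul' a b := by
    ext A x
    simp [mul_smul, mul_inv_rev]

@[simp] theorem phi_apply (g : G) (A : X → H) (x : X) : phi g A x = A (g⁻¹ • x) := rfl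

/-- The group. -/
abbrev WW (G X H : Type) [Group G] [Group H] [MulAction G X] : Type := SemidirectProduct (X → H) G phi

theorem left_mul (u v : WW G X H) (x : X) : (u * v).left x = u.left x * v.left (u.right⁻¹ • x) := rfl

theorem right_mul (u v : WW G X H) : (u * v).right = u.right * v.right := rfl

theorem left_inv (u : WW G X H) (x : X) : (u⁻¹).left x = (u.left (u.right • x))⁻¹ := by
  have h : (u⁻¹).left = phi (u.right⁻¹) (u.left⁻¹) := rfl
  rw [h, phi_apply, inv_inv]
  rfl

theorem right_inv (u : WW G X H) : (u⁻¹).right = u.right⁻¹ := rfl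

variable (π : H →* G) (t : X → G)

/-- The lifts. -/
def E0 : Subgroup (WW G X H) where
  carrier := {u | ∀ x, π (u.left x) = (t x)⁻¹ * u.right * t (u.right⁻¹ • x)}
  mul_mem' := by
    intro u v hu hv x
    rw [left_mul, right_mul, map_mul, hu x, hv]
    simp [mul_assoc, mul_smul, mul_inv_rev]
  one_mem' := by
    intro x
    show π 1 = (t x)⁻¹ * 1 * t ((1 : G)⁻¹ • x)
    simp
  inv_mem' := by
    intro u hu x
    rw [left_inv, right_inv, map_inv, hu]
    simp [mul_assoc]

variable {π t}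

/-- The map to `G`. -/
def rho : E0 π t →* G := (SemidirectProduct.rightHom).comp (E0 π t).subtype

@[simp] theorem rho_apply (u : E0 π t) : rho u = u.1.right := rfl

theorem rho_surj {x0 : X} (ht : ∀ x, t x • x0 = x) (hr : ∀ h : G, h • x0 = x0 → h ∈ π.range) :
    Function.Surjective (rho (π := π) (t := t)) := by
  intro g
  have h1 : ∀ x, ∃ a, π a = (t x)⁻¹ * g * t (g⁻¹ • x) := by
    intro x
    apply hr
    simp only [mul_smul, ht, smul_inv_smul]
    rw [inv_smul_eq_iff, ht]
  choose A hA using h1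
  exact ⟨⟨⟨A, g⟩, hA⟩, rfl⟩

theorem left_ker (u : E0 π t) (hu : rho u = 1) (x : X) : u.1.left x ∈ π.ker := by
  have h1 := u.2 x
  have h2 : u.1.right = 1 := hu
  rw [h2] at h1
  simpa [MonoidHom.mem_ker] using h1

section prod

variable [Fintype X] (hZ : π.ker ≤ center H)

/-- The product of the values of an element of the kernel. -/
noncomputable def prodK : (rho (π := π) (t := t)).ker →* center H where
  toFun u := ∏ x, ⟨u.1.1.left x, hZ (left_ker u.1 u.2 x)⟩
  map_one' := by
    apply Finset.prod_eq_one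
    intro x _
    rfl
  map_mul' u v := by
    rw [← Finset.prod_mul_distrib]
    apply Finset.prod_congr rfl
    intro x _
    apply Subtype.ext
    have h2 : u.1.1.right = 1 := u.2
    show (u.1.1 * v.1.1).left x = u.1.1.left x * v.1.1.left x
    rw [left_mul, h2]
    simp

omit [Fintype X] in
theorem conj_mem_ker (w : E0 π t) (u : (rho (π := π) (t := t)).ker) : w * u.1 * w⁻¹ ∈ (rho (π := π) (t := t)).ker := by
  rw [MonoidHom.mem_ker, map_mul, map_mul, map_inv, MonoidHom.mem_ker.1 u.2]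
  simp

omit [Fintype X] in
/-- Conjugation permutes the values. -/
theorem left_conj (hZ : π.ker ≤ center H) (w : E0 π t) (u : (rho (π := π) (t := t)).ker) (x : X) :
    (w.1 * u.1.1 * w.1⁻¹).left x = u.1.1.left (w.1.right⁻¹ • x) := by
  have h2 : u.1.1.right = 1 := u.2
  have hc : ∀ (a : H) (y : X), a * u.1.1.left y = u.1.1.left y * a := by
    intro a y
    have h3 := hZ (left_ker u.1 u.2 y)
    rw [Subgroup.mem_center_iff] at h3
    exact h3 a
  rw [left_mul, left_mul, left_inv, right_mul, h2]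
  simp only [mul_one, mul_inv_rev, inv_inv, smul_inv_smul]
  rw [hc, mul_assoc]
  simp

theorem prodK_conj (w : E0 π t) (u : (rho (π := π) (t := t)).ker) :
    prodK hZ ⟨w * u.1 * w⁻¹, conj_mem_ker w u⟩ = prodK hZ u := by
  show (∏ x, (⟨(w.1 * u.1.1 * w.1⁻¹).left x, _⟩ : center H)) = ∏ x, _
  refine Fintype.prod_equiv (MulAction.toPerm (w.1.right⁻¹)) _ _ fun x => ?_
  apply Subtype.ext
  exact left_conj hZ w u x

/-- The functions of product one. -/
noncomputable def LL : Subgroup (E0 π t) := ((prodK (π := π) (t := t) hZ).ker).map (rho (π := π) (t := t)).ker.subtype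

theorem mem_LL {u : E0 π t} : u ∈ LL (π := π) (t := t) hZ ↔ ∃ hu : u ∈ (rho (π := π) (t := t)).ker, prodK hZ ⟨u, hu⟩ = 1 := by
  constructor
  · rintro ⟨v, hv, rfl⟩
    exact ⟨v.2, hv⟩
  · rintro ⟨hu, h⟩
    exact ⟨⟨u, hu⟩, h, rfl⟩

theorem LL_le : LL (π := π) (t := t) hZ ≤ (rho (π := π) (t := t)).ker := by
  rintro _ ⟨v, -, rfl⟩
  exact v.2

instance LL_normal : (LL (π := π) (t := t) hZ).Normal := by
  refine ⟨fun u hu w => ?_⟩
  obtain ⟨hu1, hu2⟩ := (mem_LL hZ).1 hu
  refine (mem_LL hZ).2 ⟨conj_mem_ker w ⟨u, hu1⟩, ?_⟩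
  rw [prodK_conj hZ w ⟨u, hu1⟩]
  exact hu2

/-- The extension. -/
noncomputable def sig : (E0 π t ⧸ LL (π := π) (t := t) hZ) →* G :=
  QuotientGroup.lift _ rho (LL_le hZ)

theorem sig_mk (u : E0 π t) : sig hZ (u : E0 π t ⧸ LL (π := π) (t := t) hZ) = rho u := rfl

end prod

section main

variable [Fintype X] (hZ : π.ker ≤ center H)

theorem exists_stem_aux [Finite G] [Finite H] {p : ℕ} (hp : p.Prime) {x0 : X} (ht : ∀ x, t x • x0 = x)
    (hr : ∀ h : G, h • x0 = x0 → h ∈ π.range) (hcard : Nat.card π.ker = p)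
    (u v : E0 π t) (hc : ⁅u, v⁆ ∈ (rho (π := π) (t := t)).ker)
    (hne : prodK hZ ⟨⁅u, v⁆, hc⟩ ≠ 1) :
    ∃ (Γ : Type) (_ : Group Γ) (_ : Finite Γ) (σ : Γ →* G), IsStemExtension σ ∧ Nat.card σ.ker = p := by
  classical
  have : Fact p.Prime := ⟨hp⟩
  have : Finite (WW G X H) := Finite.of_equiv _ (SemidirectProduct.equivProd (N := X → H) (G := G) (φ := phi)).symm
  refine ⟨E0 π t ⧸ LL (π := π) (t := t) hZ, inferInstance, inferInstance, sig hZ, ?_⟩
  set N := LL (π := π) (t := t) hZ with hN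
  -- values in the kernel
  have hval : ∀ w : (rho (π := π) (t := t)).ker, ((prodK hZ w : center H) : H) ∈ π.ker := by
    intro w
    have h1 : (∏ x, (⟨w.1.1.left x, hZ (left_ker w.1 w.2 x)⟩ : center H)) ∈ π.ker.comap (center H).subtype :=
      Subgroup.prod_mem _ fun x _ => left_ker w.1 w.2 x
    exact h1
  set c : (rho (π := π) (t := t)).ker := ⟨⁅u, v⁆, hc⟩ with hcdef
  -- the group of values has prime order
  have hz0 : ((prodK hZ c : center H) : H) ≠ 1 := by
    intro h
    exact hne (Subtype.ext h)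
  let z : π.ker := ⟨(prodK hZ c : center H), hval c⟩
  have hz : z ≠ 1 := fun h => hz0 (congrArg Subtype.val h)
  have hgen : ∀ w : (rho (π := π) (t := t)).ker, ∃ k : ℤ, prodK hZ w = (prodK hZ c) ^ k := by
    intro w
    let y : π.ker := ⟨(prodK hZ w : center H), hval w⟩
    obtain ⟨k, hk⟩ := Subgroup.mem_zpowers_iff.1 (mem_zpowers_of_prime_card hcard (g := z) (g' := y) hz)
    refine ⟨k, Subtype.ext ?_⟩
    have h1 := congrArg Subtype.val hk
    simp only [Subgroup.coe_zpow] at h1 ⊢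
    exact h1.symm
  have hzp : (prodK hZ c) ^ p = 1 := by
    have h1 : z ^ p = 1 := by
      rw [← hcard]
      exact pow_card_eq_one'
    apply Subtype.ext
    have h2 := congrArg Subtype.val h1
    simpa using h2
  -- the class of the commutator
  let cb : E0 π t ⧸ N := ((c.1 : E0 π t) : E0 π t ⧸ N)
  have hker : ∀ y, sig hZ y = 1 ↔ ∃ k : ℤ, y = cb ^ k := by
    intro y
    obtain ⟨w, rfl⟩ := QuotientGroup.mk_surjective y
    constructor
    · intro h
      have hw : w ∈ (rho (π := π) (t := t)).ker := h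
      obtain ⟨k, hk⟩ := hgen ⟨w, hw⟩
      refine ⟨k, ?_⟩
      rw [← QuotientGroup.mk_zpow]
      apply (QuotientGroup.eq_iff_div_mem).2
      have h3 : w / c.1 ^ k ∈ (rho (π := π) (t := t)).ker := by
        rw [MonoidHom.mem_ker, map_div, map_zpow, MonoidHom.mem_ker.1 hw, MonoidHom.mem_ker.1 c.2]
        simp
      refine (mem_LL hZ).2 ⟨h3, ?_⟩
      have h4 : (⟨w / c.1 ^ k, h3⟩ : (rho (π := π) (t := t)).ker) = ⟨w, hw⟩ / c ^ k := rfl
      rw [h4, map_div, map_zpow, hk]
      simp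
    · rintro ⟨k, hk⟩
      rw [hk, map_zpow]
      have h1 : sig hZ cb = 1 := MonoidHom.mem_ker.1 c.2
      rw [h1, one_zpow]
  have hcb1 : cb ≠ 1 := by
    intro h
    have h1 : c.1 ∈ N := (QuotientGroup.eq_one_iff _).1 h
    obtain ⟨h2, h3⟩ := (mem_LL hZ).1 h1
    exact hne h3
  have hcbp : cb ^ p = 1 := by
    have h1 : c.1 ^ p ∈ N := by
      refine (mem_LL hZ).2 ⟨?_, ?_⟩
      · exact (rho (π := π) (t := t)).ker.pow_mem c.2 p
      · have h4 : (⟨c.1 ^ p, (rho (π := π) (t := t)).ker.pow_mem c.2 p⟩ : (rho (π := π) (t := t)).ker) = c ^ p := rfl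
        rw [h4, map_pow, hzp]
    have h2 := (QuotientGroup.eq_one_iff _).2 h1
    rwa [QuotientGroup.mk_pow] at h2
  have hord : orderOf cb = p := orderOf_eq_prime hcbp hcb1
  have hkerz : (sig hZ).ker = zpowers cb := by
    ext y
    rw [MonoidHom.mem_ker, hker, Subgroup.mem_zpowers_iff]
    constructor
    · rintro ⟨k, rfl⟩
      exact ⟨k, rfl⟩
    · rintro ⟨k, rfl⟩
      exact ⟨k, rfl⟩
  have hcent : cb ∈ center (E0 π t ⧸ N) := by
    rw [Subgroup.mem_center_iff]
    intro y
    obtain ⟨w, rfl⟩ := QuotientGroup.mk_surjective y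
    have h1 : (w : E0 π t ⧸ N) * cb = ((w * c.1 : E0 π t) : E0 π t ⧸ N) := rfl
    have h2 : cb * (w : E0 π t ⧸ N) = ((c.1 * w : E0 π t) : E0 π t ⧸ N) := rfl
    rw [h1, h2, QuotientGroup.eq]
    have hm := conj_mem_ker (π := π) (t := t) w⁻¹ c
    let d : (rho (π := π) (t := t)).ker := ⟨w⁻¹ * c.1 * w⁻¹⁻¹, hm⟩
    have hq : (w * c.1)⁻¹ * (c.1 * w) = (c⁻¹ * d).1 := by
      show (w * c.1)⁻¹ * (c.1 * w) = c.1⁻¹ * (w⁻¹ * c.1 * w⁻¹⁻¹)
      group
    rw [hq]
    refine (mem_LL hZ).2 ⟨(c⁻¹ * d).2, ?_⟩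
    have hd : prodK hZ d = prodK hZ c := prodK_conj hZ w⁻¹ c
    show prodK hZ (c⁻¹ * d) = 1
    rw [map_mul, map_inv, hd, inv_mul_cancel]
  have hcomm : cb ∈ commutator (E0 π t ⧸ N) := by
    have h1 : cb = ⁅(u : E0 π t ⧸ N), (v : E0 π t ⧸ N)⁆ :=
      map_commutatorElement (QuotientGroup.mk' N) u v
    rw [h1]
    exact Subgroup.commutator_mem_commutator (mem_top _) (mem_top _)
  refine ⟨⟨?_, ?_, ?_⟩, ?_⟩
  · intro g
    obtain ⟨w, hw⟩ := rho_surj (π := π) (t := t) ht hr g
    exact ⟨(w : E0 π t ⧸ N), hw⟩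
  · rw [hkerz, zpowers_le]
    exact hcent
  · rw [hkerz, zpowers_le]
    exact hcomm
  · rw [hkerz, Nat.card_zpowers, hord]

include hZ in
/-- The version with tables: two commuting elements `g`, `g'` of `G`, lifts `A`, `B` of their "monomial matrices",
and the exponents of the commutator. -/
theorem exists_stem_of_tables [Finite G] [Finite H] {p : ℕ} (hp : p.Prime) {x0 : X} (ht : ∀ x, t x • x0 = x)
    (hr : ∀ h : G, h • x0 = x0 → h ∈ π.range) (hcard : Nat.card π.ker = p)
    {g g' : G} (hgg : g * g' = g' * g) {A B : X → H}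
    (hA : ∀ x, π (A x) = (t x)⁻¹ * g * t (g⁻¹ • x))
    (hB : ∀ x, π (B x) = (t x)⁻¹ * g' * t (g'⁻¹ • x))
    {z : H} (hz : z ∈ π.ker) (hz1 : z ≠ 1) (e : X → ℕ)
    (hC : ∀ x, A x * B (g⁻¹ • x) = z ^ e x * (B x * A (g'⁻¹ • x)))
    (hsum : ¬ p ∣ ∑ x, e x) :
    ∃ (Γ : Type) (_ : Group Γ) (_ : Finite Γ) (σ : Γ →* G), IsStemExtension σ ∧ Nat.card σ.ker = p := by
  classical
  have : Fact p.Prime := ⟨hp⟩
  let u : E0 π t := ⟨⟨A, g⟩, hA⟩
  let v : E0 π t := ⟨⟨B, g'⟩, hB⟩
  have hc : ⁅u, v⁆ ∈ (rho (π := π) (t := t)).ker := by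
    rw [MonoidHom.mem_ker, map_commutatorElement]
    show ⁅g, g'⁆ = 1
    rw [commutatorElement_eq_one_iff_mul_comm]
    exact hgg
  have hc1 : (⁅u, v⁆ : E0 π t).1.right = 1 := hc
  have hleft : ∀ x, (⁅u, v⁆ : E0 π t).1.left x = z ^ e x := by
    intro x
    have h1 : u * v = ⁅u, v⁆ * (v * u) := by
      rw [commutatorElement_def]
      group
    have h2 : (u * v).1.left x = (⁅u, v⁆ * (v * u) : E0 π t).1.left x := by rw [← h1]
    have h3 : (u * v).1.left x = A x * B (g⁻¹ • x) := rfl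
    have h4 : (⁅u, v⁆ * (v * u) : E0 π t).1.left x = (⁅u, v⁆ : E0 π t).1.left x * (v * u).1.left x := by
      show (⁅u, v⁆.1 * (v * u).1).left x = _
      rw [left_mul, hc1]
      simp
    have h5 : (v * u).1.left x = B x * A (g'⁻¹ • x) := rfl
    rw [h3, h4, h5, hC x] at h2
    exact (mul_right_cancel h2).symm
  have hzZ : z ∈ center H := hZ hz
  let zc : center H := ⟨z, hzZ⟩
  let zk : π.ker := ⟨z, hz⟩
  have hzk1 : zk ≠ 1 := fun h => hz1 (congrArg Subtype.val h)
  have hzkp : zk ^ p = 1 := by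
    rw [← hcard]
    exact pow_card_eq_one'
  have hord : orderOf zk = p := orderOf_eq_prime hzkp hzk1
  refine exists_stem_aux hZ hp ht hr hcard u v hc ?_
  intro h
  have h1 : prodK hZ ⟨⁅u, v⁆, hc⟩ = zc ^ ∑ x, e x := by
    rw [← Finset.prod_pow_eq_pow_sum]
    show (∏ x, (⟨(⁅u, v⁆ : E0 π t).1.left x, _⟩ : center H)) = _
    apply Finset.prod_congr rfl
    intro x _
    apply Subtype.ext
    exact hleft x
  rw [h1] at h
  have h2 : zk ^ ∑ x, e x = 1 := by
    apply Subtype.ext
    have h3 := congrArg (fun w : center H => (w : H)) h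
    simpa using h3
  apply hsum
  rw [← hord]
  exact orderOf_dvd_of_pow_eq_one h2

end main

end Cfsg.Agent.Lib.Cores
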