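import Cfsg.Agent.Lib.Cores.Basic
import Cfsg.Agent.Lib.Schur.CoverH

/-!
# Central extensions by corestriction, from codes

The group `H0` acts on `Fin m ⊕ Fin N` (numbered with `Fin m` first) preserving the parts, a chain checks it, and the
action on `Fin m` is a point stabiliser in a group `G` of permutations of `Fin m`.  Tables of lifts of two commuting
elements of `G` give a nonsplit central extension of `G` when the exponents of the commutator have non-zero sum.
-/

set_option autoImplicit false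

namespace Cfsg.Agent.Lib.Cores

open Cfsg Subgroup
open Cfsg.Agent.Lib.PermComp.Core Cfsg.Agent.Lib.Schur.CoverCert Cfsg.Agent.Lib.Schur
open Cfsg.Agent.Lib.Schur.CoverH (EF EF_inr EF_inl mapsTo_of_rep rep_proj)

/-- A subgroup of the right order fixing a point is the stabiliser of that point. -/
theorem stab_le {β : Type} [Finite β] (G H' : Subgroup (Equiv.Perm β)) (hle : H' ≤ G) (x0 : β)
    (hfix : ∀ h ∈ H', h x0 = x0) (htr : ∀ x, ∃ g ∈ G, g x0 = x)
    (hcard : Nat.card G = Nat.card β * Nat.card H') : ∀ g ∈ G, g x0 = x0 → g ∈ H' := by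
  classical
  let S : Subgroup G := MulAction.stabilizer G x0
  have hind : S.index = Nat.card β := by
    have h1 : S.index = (MulAction.orbit G x0).ncard := MulAction.index_stabilizer G x0
    have h2 : MulAction.orbit G x0 = Set.univ := by
      ext x
      simp only [Set.mem_univ, iff_true]
      obtain ⟨g, hg, hgx⟩ := htr x
      exact ⟨⟨g, hg⟩, hgx⟩
    rw [h1, h2, Set.ncard_univ]
  have hS : Nat.card S = Nat.card H' := by
    have h1 := Subgroup.card_mul_index S
    rw [hind, hcard, mul_comm] at h1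
    have : Nonempty β := ⟨x0⟩
    exact Nat.eq_of_mul_eq_mul_left (Nat.card_pos (α := β)) h1
  have hle2 : H'.subgroupOf G ≤ S := by
    intro h hh
    exact hfix h.1 (Subgroup.mem_subgroupOf.1 hh)
  have heq : H'.subgroupOf G = S := by
    apply Subgroup.eq_of_le_of_card_ge hle2
    rw [hS]
    exact le_of_eq (Nat.card_congr (Subgroup.subgroupOfEquivOfLe hle).toEquiv).symm
  intro g hg hgx
  have h1 : (⟨g, hg⟩ : G) ∈ S := hgx
  rw [← heq] at h1
  exact Subgroup.mem_subgroupOf.1 h1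

/-- One row of the tables. -/
noncomputable def rowOK (N m w mask L maskL idc w' mask' : ℕ) (ls : List Lev) (zc : ℕ)
    (TT TA TB Te : List ℕ) (ga gb gai gbi : ℕ) (x : ℕ) : Bool :=
  force (nthN TA x) fun a =>
  force (nthN TB x) fun b =>
  force (app w' mask' gai x) fun ax =>
  force (app w' mask' gbi x) fun bx =>
  force (nthN TT x) fun tx =>
  force (nthN TT ax) fun tax =>
  force (nthN TT bx) fun tbx =>
  ifB (force (Cfsg.Agent.Lib.PermComp.Core.inv (m + N) w mask a) fun d => goodPair (m + N) w mask a d) <|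
  ifB (force (Cfsg.Agent.Lib.PermComp.Core.inv (m + N) w mask b) fun d => goodPair (m + N) w mask b d) <|
  ifB (sift (m + N) w mask L maskL idc ls a) <|
  ifB (sift (m + N) w mask L maskL idc ls b) <|
  ifB (allL (fun i => Nat.beq (app w' mask' tx (app w mask a i)) (app w' mask' ga (app w' mask' tax i)))
    (List.range m)) <|
  ifB (allL (fun i => Nat.beq (app w' mask' tx (app w mask b i)) (app w' mask' gb (app w' mask' tbx i)))
    (List.range m)) <|
  Nat.beq (comp (m + N) w mask a (nthN TB ax))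
    (comp (m + N) w mask (powC (m + N) w mask idc zc (nthN Te x))
      (comp (m + N) w mask b (nthN TA bx)))

section Main

variable {N m w mask L maskL idc w' mask' : ℕ}

theorem rowOK_spec {ls : List Lev} {zc : ℕ} {TT TA TB Te : List ℕ} {ga gb gai gbi x : ℕ}
    (h : rowOK N m w mask L maskL idc w' mask' ls zc TT TA TB Te ga gb gai gbi x = true) :
    goodPair (m + N) w mask (nthN TA x) (Cfsg.Agent.Lib.PermComp.Core.inv (m + N) w mask (nthN TA x)) = true ∧
    goodPair (m + N) w mask (nthN TB x) (Cfsg.Agent.Lib.PermComp.Core.inv (m + N) w mask (nthN TB x)) = true ∧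
    sift (m + N) w mask L maskL idc ls (nthN TA x) = true ∧
    sift (m + N) w mask L maskL idc ls (nthN TB x) = true ∧
    (∀ i < m, app w' mask' (nthN TT x) (app w mask (nthN TA x) i) =
      app w' mask' ga (app w' mask' (nthN TT (app w' mask' gai x)) i)) ∧
    (∀ i < m, app w' mask' (nthN TT x) (app w mask (nthN TB x) i) =
      app w' mask' gb (app w' mask' (nthN TT (app w' mask' gbi x)) i)) ∧
    comp (m + N) w mask (nthN TA x) (nthN TB (app w' mask' gai x)) =
      comp (m + N) w mask (powC (m + N) w mask idc zc (nthN Te x))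
        (comp (m + N) w mask (nthN TB x) (nthN TA (app w' mask' gbi x))) := by
  simp only [rowOK, force_eq, ifB_eq_true] at h
  obtain ⟨h1, h2, h3, h4, h5, h6, h7⟩ := h
  refine ⟨h1, h2, h3, h4, ?_, ?_, Nat.eq_of_beq_eq_true h7⟩
  · intro i hi
    exact Nat.eq_of_beq_eq_true ((allL_eq_true _ _).1 h5 i (List.mem_range.2 hi))
  · intro i hi
    exact Nat.eq_of_beq_eq_true ((allL_eq_true _ _).1 h6 i (List.mem_range.2 hi))

/-- The main theorem. -/
theorem exists_stem_of_rows {k : ℕ} (hk : k.Prime)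
    {gens : List (ℕ × ℕ × ℕ)} {prog : List (ℕ × ℕ × ℕ)} {ls : List Lev} {zc zd p : ℕ}
    (hgens : allL (CoverH.blockOK N m w mask w' mask') gens = true)
    (hc : checkAll (m + N) w mask L maskL idc (gens.map (·.1)) prog ls = true)
    (hord : orderC ls = k * Nat.card (H w' mask' (Equiv.refl (Fin m)) (gens.map (·.2.2))))
    (hzg : goodPair (m + N) w mask zc zd = true)
    (hzs : sift (m + N) w mask L maskL idc ls zc = true)
    (hzb : allL (fun b => Nat.beq (app w mask zc b) b) (List.range m) = true)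
    (hzcomm : allL (fun t : ℕ × ℕ × ℕ => Nat.beq (comp (m + N) w mask zc t.1) (comp (m + N) w mask t.1 zc))
      gens = true)
    (hp : p < m + N) (hzp : Nat.beq (app w mask zc p) p = false)
    (G : Subgroup (Equiv.Perm (Fin m)))
    (hHG : H w' mask' (Equiv.refl (Fin m)) (gens.map (·.2.2)) ≤ G)
    (x0 : Fin m) {TT TA TB Te : List ℕ}
    (hTT : ∀ x : Fin m, ∃ g ∈ G, Rep w' mask' (Equiv.refl (Fin m)) (nthN TT x) g ∧ g x0 = x)
    (hstab : ∀ g ∈ G, g x0 = x0 → g ∈ H w' mask' (Equiv.refl (Fin m)) (gens.map (·.2.2)))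
    {ga gb gai gbi : ℕ} {g g' : Equiv.Perm (Fin m)} (hg : g ∈ G) (hg' : g' ∈ G)
    (hga : Rep w' mask' (Equiv.refl (Fin m)) ga g)
    (hgb : Rep w' mask' (Equiv.refl (Fin m)) gb g')
    (hgai : Rep w' mask' (Equiv.refl (Fin m)) gai g⁻¹)
    (hgbi : Rep w' mask' (Equiv.refl (Fin m)) gbi g'⁻¹)
    (hgg : g * g' = g' * g)
    (hrows : ∀ x < m, rowOK N m w mask L maskL idc w' mask' ls zc TT TA TB Te ga gb gai gbi x = true)
    (hsum : ¬ k ∣ ∑ x : Fin m, nthN Te x) :
    ∃ (Γ : Type) (_ : Group Γ) (_ : Finite Γ) (σ : Γ →* G), IsStemExtension σ ∧ Nat.card σ.ker = k := by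
  classical
  let e' : Fin m ≃ Fin m := Equiv.refl (Fin m)
  let E : Fin N ⊕ Fin m ≃ Fin (m + N) := EF e'
  set G' : Subgroup (Equiv.Perm (Fin m)) := H w' mask' e' (gens.map (·.2.2)) with hG'
  have hgen : ∀ t ∈ gens, goodPair (m + N) w mask t.1 t.2.1 = true ∧
      allL (fun i => Nat.ble m (app w mask t.1 (m + i))) (List.range N) = true ∧
      allL (fun b => Nat.beq (app w mask t.1 b) (app w' mask' t.2.2 b))
        (List.range m) = true := by
    intro t ht
    have := (allL_eq_true _ _).1 hgens t ht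
    simpa only [CoverH.blockOK, ifB_eq_true] using this
  have hT : ∀ c ∈ gens.map (·.1), ∃ g, Rep w mask E c g := by
    intro c hc
    obtain ⟨t, ht, rfl⟩ := List.mem_map.1 hc
    exact exists_rep _ (hgen t ht).1
  obtain ⟨hm, hid, -, hsem, heq, hcard⟩ := main_of_checkAll (e := E) hT hc
  set H0 : Subgroup (Equiv.Perm (Fin N ⊕ Fin m)) := H w mask E (gens.map (·.1)) with hH0
  have hsift : ∀ {c : ℕ} {g : Equiv.Perm (Fin N ⊕ Fin m)}, Rep w mask E c g →
      sift (m + N) w mask L maskL idc ls c = true → g ∈ H0 := by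
    intro c g hg hs
    rw [heq]
    exact sift_sound_of_sem hm hid ls hsem c g hg hs
  have hle : H0 ≤ (Equiv.Perm.sumCongrHom (Fin N) (Fin m)).range := by
    apply (Subgroup.closure_le _).2
    rintro g ⟨c, hc, hg⟩
    obtain ⟨t, ht, rfl⟩ := List.mem_map.1 hc
    exact mapsTo_of_rep e' hg (hgen t ht).2.1
  let π₀ : H0 →* Equiv.Perm (Fin m) := proj.comp (Subgroup.inclusion hle)
  have hπrep : ∀ (t : ℕ × ℕ × ℕ), t ∈ gens → ∀ (x : H0),
      Rep w mask E t.1 (x : Equiv.Perm (Fin N ⊕ Fin m)) →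
      Rep w' mask' e' t.2.2 (π₀ x) := by
    intro t ht x hx
    exact rep_proj e' (x := Subgroup.inclusion hle x) hx (hgen t ht).2.2
  have hgenH : ∀ (t : ℕ × ℕ × ℕ), t ∈ gens → ∃ x : H0,
      Rep w mask E t.1 (x : Equiv.Perm (Fin N ⊕ Fin m)) := by
    intro t ht
    obtain ⟨g, hg⟩ := exists_rep E (hgen t ht).1
    exact ⟨⟨g, H_of_rep (List.mem_map.2 ⟨t, ht, rfl⟩) hg⟩, hg⟩
  have hr : π₀.range = G' := by
    apply le_antisymm
    · rintro _ ⟨x, rfl⟩
      have hclos : H0 ≤ ((G'.comap π₀).map H0.subtype) := by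
        apply (Subgroup.closure_le _).2
        rintro g ⟨c, hc, hg⟩
        obtain ⟨t, ht, rfl⟩ := List.mem_map.1 hc
        have hgH : g ∈ H0 := Subgroup.subset_closure ⟨_, List.mem_map.2 ⟨t, ht, rfl⟩, hg⟩
        refine ⟨⟨g, hgH⟩, ?_, rfl⟩
        exact H_of_rep (List.mem_map.2 ⟨t, ht, rfl⟩) (hπrep t ht ⟨g, hgH⟩ hg)
      obtain ⟨y, hy, hyx⟩ := hclos x.2
      have : y = x := Subtype.ext hyx
      rw [← this]
      exact hy
    · apply (Subgroup.closure_le _).2
      rintro g ⟨c, hc, hg⟩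
      obtain ⟨t, ht, rfl⟩ := List.mem_map.1 hc
      obtain ⟨x, hx⟩ := hgenH t ht
      exact ⟨x, (hπrep t ht x hx).unique hg⟩
  -- reading the action on `Fin m` off a code
  have hproj : ∀ (x : H0) {c : ℕ}, Rep w mask E c (x : Equiv.Perm (Fin N ⊕ Fin m)) → ∀ b : Fin m,
      app w mask c b = ((π₀ x b : Fin m) : ℕ) := by
    intro x c hx b
    have h3 := hx (Sum.inr b)
    have h4 := proj_apply (Subgroup.inclusion hle x) b
    have h5 : (x : Equiv.Perm (Fin N ⊕ Fin m)) (Sum.inr b) = Sum.inr (π₀ x b) := h4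
    rw [h5] at h3
    have h6 : ((E (Sum.inr b) : Fin (m + N)) : ℕ) = b := EF_inr e' b
    have h7 : ((E (Sum.inr (π₀ x b)) : Fin (m + N)) : ℕ) = ((π₀ x b : Fin m) : ℕ) := EF_inr e' _
    rw [h6, h7] at h3
    exact h3
  -- the homomorphism to `G`
  have hmemG : ∀ x, π₀ x ∈ G := fun x => hHG (by rw [← hr]; exact ⟨x, rfl⟩)
  let π : H0 →* G := π₀.codRestrict G hmemG
  have hfin : Finite H0 := inferInstance
  have hkerπ : π.ker = π₀.ker := MonoidHom.ker_codRestrict _ _ _
  have hcardker : Nat.card π.ker = k := by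
    rw [hkerπ]
    have h1 := Subgroup.card_mul_index π₀.ker
    rw [Subgroup.index_ker, hr, hcard, hord] at h1
    exact Nat.eq_of_mul_eq_mul_right Nat.card_pos h1
  -- the central element
  obtain ⟨gz, hgz⟩ := exists_rep E hzg
  have hgzH := hsift hgz hzs
  let z : H0 := ⟨gz, hgzH⟩
  have hπz : π₀ z = 1 := by
    ext b
    have h1 := hproj z hgz b
    have h2 := (allL_eq_true _ _).1 hzb b.1 (List.mem_range.2 b.2)
    rw [Nat.eq_of_beq_eq_true h2] at h1
    exact h1.symm
  have hzker : z ∈ π.ker := by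
    rw [hkerπ]
    exact hπz
  have hzcent : z ∈ center H0 := by
    rw [mem_center_iff]
    have hcl : H0 ≤ centralizer ({gz} : Set (Equiv.Perm (Fin N ⊕ Fin m))) := by
      apply (Subgroup.closure_le _).2
      rintro g ⟨c, hc, hg⟩
      obtain ⟨t, ht, rfl⟩ := List.mem_map.1 hc
      rw [SetLike.mem_coe, mem_centralizer_singleton_iff]
      have h1 := (allL_eq_true _ _).1 hzcomm t ht
      have h2 := Nat.eq_of_beq_eq_true h1
      have h3 := hgz.comp hm hg
      rw [h2] at h3
      exact (hg.comp hm hgz).unique h3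
    intro y
    apply Subtype.ext
    exact mem_centralizer_singleton_iff.1 (hcl y.2)
  have hz1 : z ≠ 1 := by
    intro h
    have h1 : gz = 1 := congrArg Subtype.val h
    have h2 := hgz ((E).symm ⟨p, hp⟩)
    rw [h1] at h2
    simp at h2
    have h3 : Nat.beq (app w mask zc p) p = true := by
      rw [h2]; exact Nat.beq_refl p
    rw [h3] at hzp
    exact Bool.noConfusion hzp
  have hZ : π.ker ≤ center H0 := by
    intro y hy
    have := Fact.mk hk
    let z' : π.ker := ⟨z, hzker⟩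
    let y' : π.ker := ⟨y, hy⟩
    have hz' : z' ≠ 1 := fun h => hz1 (congrArg Subtype.val h)
    obtain ⟨n, hn⟩ := Subgroup.mem_zpowers_iff.1 (mem_zpowers_of_prime_card hcardker (g := z') (g' := y') hz')
    have h1 : z ^ n = y := congrArg Subtype.val hn
    rw [← h1]
    exact Subgroup.zpow_mem _ hzcent n
  -- the transversal
  choose τ hτG hτR hτ0 using hTT
  let t : Fin m → G := fun x => ⟨τ x, hτG x⟩
  have ht : ∀ x, t x • x0 = x := hτ0
  have hr' : ∀ h : G, h • x0 = x0 → h ∈ π.range := by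
    intro h hh
    have h1 : (h : Equiv.Perm (Fin m)) ∈ π₀.range := by
      rw [hr]
      exact hstab h.1 h.2 hh
    obtain ⟨y, hy⟩ := h1
    exact ⟨y, Subtype.ext hy⟩
  -- the tables
  have hAex : ∀ x : Fin m, ∃ u : H0, Rep w mask E (nthN TA x) (u : Equiv.Perm (Fin N ⊕ Fin m)) := by
    intro x
    obtain ⟨h1, -, h3, -⟩ := rowOK_spec (hrows x.1 x.2)
    obtain ⟨u, hu⟩ := exists_rep E h1
    exact ⟨⟨u, hsift hu h3⟩, hu⟩
  have hBex : ∀ x : Fin m, ∃ u : H0, Rep w mask E (nthN TB x) (u : Equiv.Perm (Fin N ⊕ Fin m)) := by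
    intro x
    obtain ⟨-, h1, -, h3, -⟩ := rowOK_spec (hrows x.1 x.2)
    obtain ⟨u, hu⟩ := exists_rep E h1
    exact ⟨⟨u, hsift hu h3⟩, hu⟩
  choose A hAR using hAex
  choose B hBR using hBex
  let g₁ : G := ⟨g, hg⟩
  let g₂ : G := ⟨g', hg'⟩
  have hgi1 : ∀ x : Fin m, app w' mask' gai x = ((g⁻¹ x : Fin m) : ℕ) := fun x => hgai x
  have hgi2 : ∀ x : Fin m, app w' mask' gbi x = ((g'⁻¹ x : Fin m) : ℕ) := fun x => hgbi x
  have hτc : ∀ (x y : Fin m), app w' mask' (nthN TT x) y = ((τ x y : Fin m) : ℕ) := fun x y => hτR x y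
  have hgac : ∀ y : Fin m, app w' mask' ga y = ((g y : Fin m) : ℕ) := fun y => hga y
  have hgbc : ∀ y : Fin m, app w' mask' gb y = ((g' y : Fin m) : ℕ) := fun y => hgb y
  have hA : ∀ x, π (A x) = (t x)⁻¹ * g₁ * t (g₁⁻¹ • x) := by
    intro x
    obtain ⟨-, -, -, -, h5, -, -⟩ := rowOK_spec (hrows x.1 x.2)
    have h1 : t x * π (A x) = g₁ * t (g₁⁻¹ • x) := by
      apply Subtype.ext
      ext i
      have h2 := h5 i.1 i.2
      rw [hgi1 x, hτc (g⁻¹ x) i, hgac] at h2
      rw [hproj (A x) (hAR x) i, hτc x] at h2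
      exact h2
    rw [mul_assoc, eq_inv_mul_iff_mul_eq, h1]
  have hB : ∀ x, π (B x) = (t x)⁻¹ * g₂ * t (g₂⁻¹ • x) := by
    intro x
    obtain ⟨-, -, -, -, -, h5, -⟩ := rowOK_spec (hrows x.1 x.2)
    have h1 : t x * π (B x) = g₂ * t (g₂⁻¹ • x) := by
      apply Subtype.ext
      ext i
      have h2 := h5 i.1 i.2
      rw [hgi2 x, hτc (g'⁻¹ x) i, hgbc] at h2
      rw [hproj (B x) (hBR x) i, hτc x] at h2
      exact h2
    rw [mul_assoc, eq_inv_mul_iff_mul_eq, h1]
  have hC : ∀ x, A x * B (g₁⁻¹ • x) = z ^ (nthN Te x) * (B x * A (g₂⁻¹ • x)) := by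
    intro x
    obtain ⟨-, -, -, -, -, -, h7⟩ := rowOK_spec (hrows x.1 x.2)
    rw [hgi1 x, hgi2 x] at h7
    apply Subtype.ext
    have R1 := (hAR x).comp hm (hBR (g⁻¹ x))
    have R2 := (Rep_pow hm hid hgz (nthN Te x)).comp hm ((hBR x).comp hm (hAR (g'⁻¹ x)))
    rw [h7] at R1
    exact R1.unique R2
  have hgg' : g₁ * g₂ = g₂ * g₁ := Subtype.ext hgg
  have hz1' : z ≠ 1 := hz1
  exact exists_stem_of_tables hZ hk ht hr' hcardker hgg' hA hB hzker hz1' (fun x => nthN Te x) hC hsum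

end Main

end Cfsg.Agent.Lib.Cores
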